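import Cfsg.Agent.H248.HT.UData
import Cfsg.Agent.H996.PQ.RowF4X
import Cfsg.Agent.H408.LB.FTyp
import Cfsg.Agent.H631.HT.MemOne

/-!
# S4933: `F₄(q)`, `p = 3` (helper248)

* `evZ_modEq`, `fact_of_mod`, `sl_of_mod` : congruences and valuations of the values of a polynomial, by residues;
* `ud_F4` : the constituent of degree `q² Φ₃² Φ₆² Φ₁₂`.
-/

set_option autoImplicit false

namespace Cfsg.Agent.H248.HT

open Cfsg Subgroup
open Cfsg.Agent.H967.Sph Cfsg.Agent.H317.PQ Cfsg.Agent.H64.Dl.Sph Cfsg.Agent.H996.Eight.Cert Cfsg.Agent.H996.PQ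
open Cfsg.Lie Cfsg.Agent.ChevalleyStructure.CoxeterGeomTypes Cfsg.Agent.Nodes.RGDChev Cfsg.Agent.H35.ExcIdx
  Cfsg.Agent.ChevalleyStructure.CoxeterGeom Cfsg.Agent.Tits.Roots Cfsg.Agent.Tits.Core
  Cfsg.Agent.Nodes.Reps Cfsg.Agent.Nodes.BNOf Cfsg.Agent.Nodes.Bruhat Cfsg.Agent.Nodes.LeviDec

universe u

theorem evZ_modEq {n x y : ℤ} (h : x ≡ y [ZMOD n]) (P : List ℤ) : evZ x P ≡ evZ y P [ZMOD n] := by
  induction P with
  | nil => rfl
  | cons a P ih => exact Int.ModEq.add_left _ (Int.ModEq.mul h ih)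

/-- the congruence of two polynomials, by the residue of the argument -/
theorem sl_of_mod {m p : ℕ} {f g : Fin m → List ℤ} {x : ℕ} {y : ℤ} (h : (x : ℤ) ≡ y [ZMOD p])
    (hc : ∀ c, (p : ℤ) ∣ evZ y (f c) - evZ y (g c)) (c : Fin m) : (p : ℤ) ∣ evZ x (f c) - evZ x (g c) :=
  ((evZ_modEq h (f c)).sub (evZ_modEq h (g c))).dvd_iff.2 (hc c)

/-- the valuation, by the residue of the argument -/
theorem fact_of_mod {p v x d den : ℕ} (hp : p.Prime) {dn : List ℤ} (hd : (den : ℤ) * d = evZ x dn) (hden : ¬ p ∣ den)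
    {y : ℤ} (hy : (x : ℤ) ≡ y [ZMOD (p ^ (v + 1) : ℕ)]) (h1 : ((p ^ v : ℕ) : ℤ) ∣ evZ y dn)
    (h2 : ¬ ((p ^ (v + 1) : ℕ) : ℤ) ∣ evZ y dn) : d.factorization p = v := by
  have h3 := evZ_modEq hy dn
  have h4 : ¬ ((p ^ (v + 1) : ℕ) : ℤ) ∣ evZ x dn := fun h => h2 (h3.dvd_iff.1 h)
  have h5 : ((p ^ v : ℕ) : ℤ) ∣ evZ x dn :=
    (h3.of_dvd (by exact_mod_cast pow_dvd_pow p (Nat.le_succ v))).dvd_iff.2 h1
  rw [← hd] at h4 h5
  have h6 : p ^ v ∣ den * d := by exact_mod_cast h5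
  have h7 : ¬ p ^ (v + 1) ∣ den * d := fun h => h4 (by exact_mod_cast h)
  have hcop : Nat.Coprime (p ^ v) den := Nat.Coprime.pow_left _ ((Nat.Prime.coprime_iff_not_dvd hp).2 hden)
  have h8 : p ^ v ∣ d := hcop.dvd_of_dvd_mul_left h6
  have h9 : ¬ p ^ (v + 1) ∣ d := fun h => h7 (h.mul_left _)
  have hd0 : d ≠ 0 := by
    rintro rfl
    exact h9 (dvd_zero _)
  refine le_antisymm ?_ ((hp.pow_dvd_iff_le_factorization hd0).1 h8)
  by_contra hlt
  exact h9 ((hp.pow_dvd_iff_le_factorization hd0).2 (by omega))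

/-- the diagram `F₄` has no symmetry of order a power of an odd prime -/
theorem f4_odd {p : ℕ} (hp : Odd p) (σ : Equiv.Perm (Fin 4))
    (hσ : ∀ i j, CoxeterMatrix.F₄ (σ i) (σ j) = CoxeterMatrix.F₄ i j) (hk : ∃ k, σ ^ p ^ k = 1) : σ = 1 := by
  rcases H408.LB.f4_sym hσ with h | h
  · exact h
  · obtain ⟨k, hk⟩ := hk
    have h2 : σ ^ 2 = 1 := by rw [h]; decide +kernel
    obtain ⟨a, ha⟩ := hp.pow (n := k)
    rw [ha, pow_succ, pow_mul, h2, one_pow, one_mul] at hk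
    exact hk

/-- **`F₄(q)`, `p = 3`.** -/
theorem ud_F4 (K : Type u) [Field K] [Fintype K] [Finite ↥(chevF4.group K)] (h3 : ¬ 3 ∣ Fintype.card K) :
    UD 3 2 ↥(chevF4.group K) := by
  have : Fintype ↥(chevF4.group K) := Fintype.ofFinite _
  have hx : 2 ≤ Fintype.card K := Fintype.one_lt_card
  refine ud_split hpF4 K FullF4a.hA FullF4a.full (by decide +kernel) Nat.prime_three
    (fun σ hσ hk => f4_odd (by decide) σ hσ hk) (i := 3) (by decide +kernel) ?_ ?_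
  · rcases (by omega : Fintype.card K % 3 = 1 ∨ Fintype.card K % 3 = 2) with h | h
    · left
      intro χ hχ N hN
      rw [H674.XZ.ip_eq] at hχ
      exact H631.HT.mem_one_F4 (p := 3) (by decide) (by omega) hN _ χ hχ
    · right
      refine ⟨FullF4a.lam 3, fun c => FullF4a.lam_ok 3 c, sl_of_mod (y := 2) ?_ ?_⟩
      · exact Int.natCast_modEq_iff.2 (show Fintype.card K ≡ 2 [MOD 3] from h)
      · decide +kernel
  · have hd := FullF4a.deg hx 3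
    have h9 : Fintype.card K % 27 < 27 := Nat.mod_lt _ (by decide)
    refine fact_of_mod Nat.prime_three (v := 2) hd (by decide +kernel) (y := ((Fintype.card K % 27 : ℕ) : ℤ)) ?_ ?_ ?_
    · exact (Int.natCast_modEq_iff.2 (Nat.mod_modEq _ _)).symm
    · have key : ∀ y : Fin 27, ¬ (y : ℕ) % 3 = 0 → ((3 ^ 2 : ℕ) : ℤ) ∣ evZ ((y : ℕ) : ℤ) (FullF4a.pol.dn 3) := by
        decide +kernel
      exact key ⟨_, h9⟩ (by simp only; omega)
    · have key : ∀ y : Fin 27, ¬ (y : ℕ) % 3 = 0 → ¬ ((3 ^ 3 : ℕ) : ℤ) ∣ evZ ((y : ℕ) : ℤ) (FullF4a.pol.dn 3) := by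
        decide +kernel
      exact key ⟨_, h9⟩ (by simp only; omega)

end Cfsg.Agent.H248.HT
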