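import Cfsg.Agent.H248.HT.Glue
import Cfsg.Agent.H248.HT.F4
import Cfsg.Agent.H421.HT.Pair
import Cfsg.Agent.H726.HT.Ab

/-!
# S4933 : the field `f4` (helper248)
-/

set_option autoImplicit false

namespace Cfsg.Agent.H248.HT

open Cfsg Cfsg.Agent.H316.HT

/-- **the field `f4` of the odd rows**: `F₄(q)`, `p` odd, `p ∤ q`, nonabelian Sylow `p`-subgroups -/
theorem f4 (p : ℕ) [Fact p.Prime] (F : Type) [Field F] [Fintype F] [IsSimpleGroup (Lie.chevF4.group F)] (hp : p ≠ 2)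
    (hq : ¬ p ∣ Fintype.card F) (h : ¬ H892.HT.Ab p (Lie.chevF4.group F)) : Row p (Lie.chevF4.group F) := by
  have h3 : p = 3 := H726.HT.f4_cases hp hq h
  subst h3
  have : Finite ↥(Lie.chevF4.group F) := inferInstance
  exact row_of_ud two_pos (ud_F4 F hq) fun A _ _ N _ ⟨e⟩ P a _ hcd =>
    H421.HT.two_le Nat.prime_three (H421.HT.tp_F4 hq) N e P hcd

end Cfsg.Agent.H248.HT
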