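import Cfsg.Agent.H248.HT.UData
import Cfsg.Agent.H40.HT.Own
import Cfsg.Agent.CharDeep.CliffordCorr
import Cfsg.Agent.H624.HT.RowOf
import Cfsg.Agent.H700.PrinExt

/-!
# S4933, exceptional rows: from a constituent of multiplicity one to the row (helper248)

* `exists_ext` : `N` normal, `N L = G`; an invariant constituent of multiplicity one of `1_(L ∩ N)^N` extends to `G`;
* `row_of_ud` : `UD p v S` gives `Row p S` if `v ≤ a` is known.
-/

set_option autoImplicit false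
set_option linter.unusedSectionVars false

open scoped ComplexConjugate
open Cfsg

namespace Cfsg.Agent.H248.HT

open Cfsg.Agent.Characters Cfsg.Agent.Characters.Core Cfsg.Agent.Characters.Clifford Cfsg.Agent.H316.HT

universe u v

/-- **extension of a constituent of multiplicity one** -/
theorem exists_ext {G : Type u} [Group G] [Fintype G] (N : Subgroup G) [N.Normal] [Fintype N] (L : Subgroup G)
    (hNL : N ⊔ L = ⊤) (ψ : IrrCharacter N) (hinv : ∀ g : G, (ψ : N → ℂ) ∘ (MulAut.conjNormal g : MulAut N) = ψ)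
    (h1 : classInner (indFun (L.subgroupOf N) fun _ => (1 : ℂ)) (ψ : N → ℂ) = 1) :
    ∃ ξ : IrrCharacter G, (fun n : N => (ξ : G → ℂ) n) = (ψ : N → ℂ) := by
  classical
  have hf : Finite (IrrCharacter G) := finite_irr
  have : Fintype (IrrCharacter G) := Fintype.ofFinite _
  have hcl : IsClassFunction ↥L fun _ => (1 : ℂ) := fun _ _ => rfl
  have hres : (fun n : N => indFun L (fun _ => (1 : ℂ)) n) = indFun (L.subgroupOf N) fun _ => (1 : ℂ) := by
    funext n
    exact Cfsg.Agent.CharactersDeep.MaxInduced.indFun_restrict N L hNL _ hcl n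
  obtain ⟨m, hm⟩ := exists_nat_comb (H40.HT.isCharacter_ind L)
  have hR : ∀ χ : IrrCharacter G, IsCharacter N fun n : N => (χ : G → ℂ) n := fun χ =>
    isCharacter_comp N.subtype (isIrr_isCharacter χ.2)
  have hnat : ∀ (χ : IrrCharacter G), ∃ k : ℕ,
      classInner (fun n : N => (χ : G → ℂ) n) (ψ : N → ℂ) = k := fun χ =>
    classInner_isNat (hR χ) (isIrr_isCharacter ψ.2)
  choose k hk using hnat
  have htot : classInner (indFun (L.subgroupOf N) fun _ => (1 : ℂ)) (ψ : N → ℂ) =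
      ((∑ χ : IrrCharacter G, m χ * k χ : ℕ) : ℂ) := by
    rw [← hres]
    have e1 : (fun n : N => indFun L (fun _ => (1 : ℂ)) n) =
        ∑ χ : IrrCharacter G, (m χ : ℂ) • fun n : N => (χ : G → ℂ) n := by
      funext n
      rw [hm, Finset.sum_apply, Finset.sum_apply]
      refine Finset.sum_congr rfl fun χ _ => ?_
      rw [Pi.smul_apply, Pi.smul_apply, nsmul_eq_mul, smul_eq_mul]
    rw [e1, classInner_sum_left, Nat.cast_sum]
    refine Finset.sum_congr rfl fun χ _ => ?_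
    rw [classInner_smul_left, hk, Nat.cast_mul]
  rw [h1] at htot
  have htot' : ∑ χ : IrrCharacter G, m χ * k χ = 1 := by exact_mod_cast htot.symm
  obtain ⟨χ, hχ⟩ : ∃ χ : IrrCharacter G, m χ * k χ ≠ 0 := by
    by_contra hc
    push Not at hc
    rw [Finset.sum_eq_zero fun χ _ => hc χ] at htot'
    exact zero_ne_one htot'
  have h2 : m χ * k χ ≤ 1 := by
    rw [← htot']
    exact Finset.single_le_sum (f := fun η => m η * k η) (fun _ _ => Nat.zero_le _) (Finset.mem_univ χ)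
  have h3 : k χ = 1 := Nat.eq_one_of_mul_eq_one_left (by omega : m χ * k χ = 1)
  refine ⟨χ, ?_⟩
  have h4 : classInner (fun n : N => (χ : G → ℂ) n) (ψ : N → ℂ) = 1 := by
    rw [hk, h3, Nat.cast_one]
  have h5 := Cfsg.Agent.CharDeep.CliffordCorr.restrict_eq_smul_of_invariant N χ.2 ψ.2 hinv (by
    rw [h4]; exact one_ne_zero)
  rw [h4, one_smul] at h5
  exact h5

/-- the inner product with the permutation character, two forms -/
theorem inner_ind_of_ip {S : Type u} [Group S] [Fintype S] (K : Subgroup S) (ψ : IrrCharacter S)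
    (h : H674.XZ.ip (H145.BR.permC S (S ⧸ K)) (ψ : S → ℂ) = 1) :
    classInner (indFun K fun _ => (1 : ℂ)) (ψ : S → ℂ) = 1 := by
  classical
  have : Fintype K := Fintype.ofFinite K
  rw [Cfsg.Agent.OddOrderCharacters.Clifford.classInner_indFun K (fun _ => (1 : ℂ)) (ψ : S → ℂ)
    (isIrr_isClassFunction ψ.2), Core.classInner_def]
  have h1 : H674.XZ.ip (H145.BR.permC S (S ⧸ K)) (ψ : S → ℂ) = H319.PQ.mu K (ψ : S → ℂ) := by
    rw [H674.XZ.ip_eq]
    exact H319.PQ.classInner_cosets K ψ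
  rw [h, H319.PQ.mu, finsum_eq_sum_of_fintype] at h1
  have h2 := congrArg conj h1
  rw [map_one, map_mul, map_sum, map_inv₀, Complex.conj_natCast] at h2
  simp only [one_mul]
  exact h2.symm

/-- **The row.** `ha`: the bound `v ≤ a`. -/
theorem row_of_ud {p v : ℕ} [hp : Fact p.Prime] {S : Type} [Group S] [Finite S] (hv : 0 < v) (U : UD p v S)
    (ha : ∀ (A : Type) [Group A] [Finite A] (N : Subgroup A) [N.Normal], Nonempty (N ≃* S) →
      ∀ (P : Sylow p A) (a : ℕ), 0 < a → CD p a (P : Subgroup A) → v ≤ a) : Row p S := by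
  classical
  obtain ⟨K, ψ, hmul, hB, hvd, -, hself, haut⟩ := U
  intro A _ _ N _ ⟨e⟩ _ M hM P a ha0 hcd
  have hva : v ≤ a := ha A N ⟨e⟩ P a ha0 hcd
  have := Fintype.ofFinite S
  have := Fintype.ofFinite A
  have := Fintype.ofFinite N
  let Φ : A →* MulAut S := (MulAut.congr e).toMonoidHom.comp MulAut.conjNormal
  have hΦ : ∀ (g : A) (y : S), Φ g y = e (MulAut.conjNormal g (e.symm y)) := fun _ _ => rfl
  have hΦN : ∀ n : N, Φ (n : A) = MulAut.conj (e n) := by
    intro n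
    ext y
    rw [hΦ, MulAut.conj_apply]
    have h2 : MulAut.conjNormal (n : A) (e.symm y) = n * e.symm y * n⁻¹ := by
      apply Subtype.ext
      simp
    rw [h2, map_mul, map_mul, map_inv, e.apply_symm_apply]
  obtain ⟨H, hH⟩ : ∃ H : Subgroup A, H = N ⊔ (P : Subgroup A) := ⟨_, rfl⟩
  have hNH : N ≤ H := by
    rw [hH]
    exact le_sup_left
  have : Fintype H := Fintype.ofFinite H
  have : Fintype ↥(N.subgroupOf H) := Fintype.ofFinite _
  have hnn : (N.subgroupOf H).Normal := inferInstance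
  -- the automorphisms
  have hpow : ∀ g ∈ H, ∃ (k : ℕ) (s : S), Φ g ^ p ^ k = MulAut.conj s := by
    intro g hg
    rw [hH] at hg
    obtain ⟨n, hn, x, hx, rfl⟩ := Subgroup.mem_sup_of_normal_left.1 hg
    obtain ⟨k, hk⟩ := P.2 ⟨x, hx⟩
    have hk' : x ^ p ^ k = 1 := congrArg Subtype.val hk
    have h1 : (n * x) ^ p ^ k ∈ N := by
      rw [← QuotientGroup.eq_one_iff, QuotientGroup.mk_pow, QuotientGroup.mk_mul, (QuotientGroup.eq_one_iff n).2 hn,
        one_mul, ← QuotientGroup.mk_pow, hk', QuotientGroup.mk_one]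
    exact ⟨k, e ⟨_, h1⟩, by rw [← map_pow, ← hΦN]⟩
  have hst : ∀ g ∈ H, (∃ s : S, ∀ x, s⁻¹ * Φ g x * s ∈ K ↔ x ∈ K) ∧ ∀ x, (ψ : S → ℂ) (Φ g x) = (ψ : S → ℂ) x :=
    fun g hg => haut (Φ g) (hpow g hg)
  -- the stabilizer
  let L : Subgroup H :=
    { carrier := {g | ∀ y : S, Φ (g : A) y ∈ K ↔ y ∈ K}
      one_mem' := fun y => by
        show Φ ((1 : H) : A) y ∈ K ↔ y ∈ K
        rw [Subgroup.coe_one, map_one, MulAut.one_apply]
      mul_mem' := fun {g g'} hg hg' y => by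
        show Φ ((g * g' : H) : A) y ∈ K ↔ y ∈ K
        rw [Subgroup.coe_mul, map_mul, MulAut.mul_apply]
        exact (hg _).trans (hg' y)
      inv_mem' := fun {g} hg y => by
        show Φ ((g⁻¹ : H) : A) y ∈ K ↔ y ∈ K
        rw [Subgroup.coe_inv, map_inv, ← hg, MulAut.apply_inv_self] }
  have hLmem : ∀ g : H, g ∈ L ↔ ∀ y : S, Φ (g : A) y ∈ K ↔ y ∈ K := fun g => Iff.rfl
  have hNL : N.subgroupOf H ⊔ L = ⊤ := by
    rw [eq_top_iff]
    rintro g -
    obtain ⟨⟨s, hs⟩, -⟩ := hst g g.2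
    have h3 : (⟨(e.symm s⁻¹ : N), hNH (e.symm s⁻¹).2⟩ : H) * g ∈ L := by
      rw [hLmem]
      intro y
      rw [← hs y, Subgroup.coe_mul, map_mul, MulAut.mul_apply]
      show Φ ((e.symm s⁻¹ : N) : A) (Φ (g : A) y) ∈ K ↔ _
      rw [hΦN, e.apply_symm_apply, MulAut.conj_apply, inv_inv]
    have h7 : g = (⟨(e.symm s⁻¹ : N), hNH (e.symm s⁻¹).2⟩ : H)⁻¹ *
        ((⟨(e.symm s⁻¹ : N), hNH (e.symm s⁻¹).2⟩ : H) * g) := by
      rw [inv_mul_cancel_left]
    rw [h7]
    exact Subgroup.mul_mem_sup (inv_mem (Subgroup.mem_subgroupOf.2 (e.symm s⁻¹).2)) h3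
  let f : ↥(N.subgroupOf H) ≃* S := (Subgroup.subgroupOfEquivOfLe hNH).trans e
  have hf : ∀ x : ↥(N.subgroupOf H), Φ ((x : H) : A) = MulAut.conj (f x) := fun x =>
    hΦN (Subgroup.subgroupOfEquivOfLe hNH x)
  have hLK : ∀ x : ↥(N.subgroupOf H), x ∈ L.subgroupOf (N.subgroupOf H) ↔ f x ∈ K := by
    intro x
    rw [Subgroup.mem_subgroupOf, hLmem, hf]
    constructor
    · intro h3
      exact hself _ h3
    · intro h3 y
      rw [MulAut.conj_apply]
      exact ⟨fun h9 => by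
        have h10 := K.mul_mem (K.mul_mem (K.inv_mem h3) h9) h3
        simpa [mul_assoc] using h10, fun h9 => K.mul_mem (K.mul_mem h3 h9) (K.inv_mem h3)⟩
  let ψ' : IrrCharacter ↥(N.subgroupOf H) :=
    ⟨(ψ : S → ℂ) ∘ f.toMonoidHom, isIrr_comp f.toMonoidHom f.surjective ψ.2⟩
  have hψ' : ∀ x, (ψ' : ↥(N.subgroupOf H) → ℂ) x = (ψ : S → ℂ) (f x) := fun _ => rfl
  have hinv : ∀ g : H, (ψ' : ↥(N.subgroupOf H) → ℂ) ∘ (MulAut.conjNormal g : MulAut (N.subgroupOf H)) = ψ' := by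
    intro g
    funext x
    rw [Function.comp_apply, hψ', hψ', ← (hst g g.2).2 (f x), hΦ]
    refine congrArg (ψ : S → ℂ) (congrArg e ?_)
    apply Subtype.ext
    show ((MulAut.conjNormal g x : N.subgroupOf H) : H) = (_ : A)
    rw [MulAut.conjNormal_apply, MulAut.conjNormal_apply]
    show ((g * (x : H) * g⁻¹ : H) : A) = (g : A) * ((e.symm (f x) : N) : A) * (g : A)⁻¹
    have h5 : e.symm (f x) = Subgroup.subgroupOfEquivOfLe hNH x := e.symm_apply_apply _
    rw [h5]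
    rfl
  obtain ⟨ξ, hξ⟩ := exists_ext (N.subgroupOf H) L hNL ψ' hinv (by
    have h8 := H40.HT.inner_ind_equiv f K (L.subgroupOf (N.subgroupOf H)) hLK ψ
    rw [inner_ind_of_ip K ψ hmul] at h8
    exact h8)
  have hξN : ∀ n : N, (ξ : H → ℂ) ⟨n, hNH n.2⟩ = (ψ : S → ℂ) (e n) := by
    intro n
    have h1 := congrFun hξ ⟨⟨n, hNH n.2⟩, Subgroup.mem_subgroupOf.2 n.2⟩
    exact h1
  have hdeg : charDegree (ξ : H → ℂ) = charDegree (ψ : S → ℂ) := by
    unfold charDegree
    have h1 := hξN 1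
    rw [map_one] at h1
    have h2 : (⟨((1 : N) : A), hNH (1 : N).2⟩ : H) = 1 := rfl
    rw [h2] at h1
    rw [h1]
  have hv' : 0 < vd p (ψ : S → ℂ) := by rw [hvd]; exact hv
  refine H624.HT.goodOn_of hM N P (H700.PrinExt.mapIrr e ψ) (H700.PrinExt.mapIrr_mem e (hB M hM)) H hH ξ
    ?_ ?_ (Or.inl ?_) ?_
  · intro _
    have h3 : (fun n : N => (ξ : H → ℂ) ⟨n, hH ▸ Subgroup.mem_sup_left n.2⟩) = (H700.PrinExt.mapIrr e ψ : N → ℂ) := by
      funext n
      exact hξN n
    rw [h3, Characters.Core.classInner_irr_self (H700.PrinExt.mapIrr e ψ).2]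
    exact one_ne_zero
  · rw [vd, hdeg]
    exact hvd.le.trans hva
  · rw [H700.PrinExt.charDegree_mapIrr]
    exact Nat.dvd_of_factorization_pos hv'.ne'
  · intro h0
    have h1 : charDegree (H700.PrinExt.mapIrr e ψ : N → ℂ) = 1 := by
      rw [h0]
      simp [charDegree]
    rw [H700.PrinExt.charDegree_mapIrr] at h1
    rw [vd, h1] at hv'
    simp at hv'

/-- **The row, `v = 1`.** -/
theorem row_of_ud_one {p : ℕ} [hp : Fact p.Prime] {S : Type} [Group S] [Finite S] (U : UD p 1 S) : Row p S :=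
  row_of_ud one_pos U fun _ _ _ _ _ _ _ _ ha _ => ha

end Cfsg.Agent.H248.HT
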